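import Cfsg.Agent.BlockB.Gal3
import Cfsg.Agent.Char.More
import Cfsg.Agent.Solv.Frattini

/-! Congruences for the sum of `χ(1) χ(g)` over a block, and Burnside's theorem on zeros. -/

set_option autoImplicit false
open Cfsg CF.Char CF.BlockB

namespace CF.Bz

variable {p k : ℕ} {M : Ideal AlgInt} {G : Type*} [Group G] [Finite G]

theorem v_term_le (χ : IrrCharacter G) (g : G) : v M ((χ : G → ℂ) 1 * (χ : G → ℂ) g) ≤ 1 :=
  v_mul_le_one (v_irr_le_one χ 1) (v_irr_le_one χ g)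

theorem sum_res_eq_zero (hM : IsPModular p M) (hp : p ∣ Nat.card G) {B : Set (IrrCharacter G)}
    (hB : nrm M (eSet B) ≤ 1) [DecidablePred (· ∈ B)] (g : G) :
    ∑ χ with χ ∈ B, resC M ((χ : G → ℂ) 1 * (χ : G → ℂ) g) = 0 := by
  rw [← resC_sum fun χ _ => v_term_le χ g,
    resC_eq_zero_iff (v_sum_le_one fun χ _ => v_term_le χ g), ← regB_apply, regB]
  exact v_mul_lt_one_left ((v_natCast_lt_one_iff hM _).2 hp) (nrm_le_iff.1 hB _)

/-- The sum over the fixed members of `p'`-degree vanishes modulo `M`. -/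
theorem sum_fixed_eq_zero (hM : IsPModular p M) (hp : p ∣ Nat.card G) {B : Set (IrrCharacter G)}
    (hB : nrm M (eSet B) ≤ 1) (f : IrrCharacter G → IrrCharacter G) {e : ℕ}
    (hf : ∀ χ, f^[p ^ e] χ = χ) (hfB : ∀ χ ∈ B, f χ ∈ B) {w : G}
    (h1 : ∀ χ, (f χ : G → ℂ) 1 = (χ : G → ℂ) 1) (hw : ∀ χ, (f χ : G → ℂ) w = (χ : G → ℂ) w)
    (s : Finset (IrrCharacter G))
    (hs : ∀ χ, χ ∈ s ↔ χ ∈ B ∧ ¬ p ∣ charDegree (χ : G → ℂ) ∧ f χ = χ) :
    ∑ χ ∈ s, resC M ((χ : G → ℂ) 1 * (χ : G → ℂ) w) = 0 := by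
  classical
  have : Fact p.Prime := ⟨hM.1⟩
  have := charP_k hM
  have h := sum_res_eq_zero hM hp hB w
  rw [sum_eq_sum_fixed_iter f hf _ (fun χ hχ => by
      simp only [Finset.mem_filter, Finset.mem_univ, true_and] at hχ ⊢; exact hfB χ hχ) _
    (fun χ _ => by rw [h1, hw]) (fun _ _ => by simp), ← Finset.sum_filter_add_sum_filter_not _
    (fun χ : IrrCharacter G => p ∣ charDegree (χ : G → ℂ)), Finset.sum_eq_zero fun χ hχ => by
      rw [resC_eq_zero_iff (v_term_le χ w)]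
      refine v_mul_lt_one_left ?_ (v_irr_le_one χ w)
      rw [← irr_charDegree_eq, v_natCast_lt_one_iff hM]
      exact (Finset.mem_filter.1 hχ).2,
    zero_add] at h
  rw [← h]
  refine Finset.sum_congr (Finset.ext fun χ => ?_) fun _ _ => rfl
  simp only [hs, Finset.mem_filter, Finset.mem_univ, true_and]
  tauto

/-- If `1 + ψ(1) ψ(w)` vanishes modulo `M` on the `p`-regular elements then `ψ` is linear. -/
theorem linear_of_res (hM : IsPModular p M) (ψ : IrrCharacter G)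
    (h : ∀ w : G, ¬ p ∣ orderOf w → v M ((ψ : G → ℂ) w) = 1) : (ψ : G → ℂ) 1 = 1 := by
  by_contra h1
  obtain ⟨g, hg⟩ := exists_irr_eq_zero ψ.2 h1
  have h2 := v_char_sub_pReg_lt_one hM (irr_isCharacter ψ.2) g
  rw [hg, zero_sub, Valuation.map_neg, h _ (pReg_pRegular hM.1 g)] at h2
  exact lt_irrefl _ h2

theorem linear_of_pair (hM : IsPModular p M) (hp : p ∣ Nat.card G)
    (hk : k.Coprime (Nat.card G)) {e : ℕ} (he : ∀ g : G, g ^ k ^ p ^ e = g)
    (hk₂ : ∀ g : G, ¬ p ∣ orderOf g → g ^ k = g) (ψ : IrrCharacter G) (hψ : ψ ≠ oneIrr G)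
    (h : ∀ χ, χ = oneIrr G ∨ χ = ψ ↔
      χ ∈ principalBlock M G ∧ ¬ p ∣ charDegree (χ : G → ℂ) ∧ gal hk χ = χ) :
    (ψ : G → ℂ) 1 = 1 := by
  classical
  refine linear_of_res hM ψ fun w hw => ?_
  have h1 := sum_fixed_eq_zero hM hp (nrm_eSet_pb hM) (gal hk) (gal_iterate_eq hk he)
    (fun χ => gal_mem_pb hM hk) (w := w) (fun χ => by rw [gal_apply, one_pow])
    (fun χ => by rw [gal_apply, hk₂ w hw]) {oneIrr G, ψ} (fun χ => by
      rw [← h, Finset.mem_insert, Finset.mem_singleton])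
  rw [Finset.sum_pair hψ.symm] at h1
  rw [v_eq_one_iff_not_lt (v_irr_le_one ψ w)]
  intro h2
  rw [(resC_eq_zero_iff (v_term_le ψ w)).2 (v_mul_lt_one_right (v_irr_le_one ψ 1) h2),
    add_zero] at h1
  have h3 : (oneIrr G : G → ℂ) 1 * (oneIrr G : G → ℂ) w = 1 := mul_one _
  rw [h3, resC_one] at h1
  exact one_ne_zero h1

/-- The sign character of a subgroup of index two. -/
theorem exists_sgn {Q : Type*} [Group Q] {K : Subgroup Q} (h : K.index = 2) :
    ∃ a : Q →* ℂˣ, a ^ 2 = 1 ∧ ∀ x, a x = 1 ↔ x ∈ K := by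
  classical
  have hn : (-1 : ℂˣ) ≠ 1 := fun h => by
    have := congrArg Units.val h
    norm_num at this
  refine ⟨MonoidHom.mk' (fun x => if x ∈ K then 1 else -1) fun x y => ?_, ?_, fun x => ?_⟩
  · simp only [Subgroup.mul_mem_iff_of_index_two h]
    by_cases hx : x ∈ K <;> by_cases hy : y ∈ K <;> simp [hx, hy]
  · ext x
    by_cases hx : x ∈ K <;> simp [hx]
  · by_cases hx : x ∈ K <;> simp [hx, hn]

theorem isCyclic_of_unique {Q : Type*} [Group Q] [Finite Q] (hQ : IsPGroup 2 Q)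
    (h : ∀ a b : Q →* ℂˣ, a ≠ 1 → b ≠ 1 → a ^ 2 = 1 → b ^ 2 = 1 → a = b) : IsCyclic Q := by
  have := Fact.mk Nat.prime_two
  have hi : ∀ K : Subgroup Q, IsCoatom K → K.index = 2 := fun K hK => by
    have := CF.Solv.isNilpotent_iff_coatom_normal.1 hQ.isNilpotent K hK
    obtain ⟨n, hn⟩ := hQ.index K
    have h1 := CF.Solv.index_prime_of_isCoatom_of_normal hK
    rw [hn] at h1 ⊢
    rw [h1.eq_one_of_pow, pow_one]
  have hne : ∀ K : Subgroup Q, IsCoatom K → ∀ a : Q →* ℂˣ, (∀ x, a x = 1 ↔ x ∈ K) → a ≠ 1 := by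
    rintro K hK a ha rfl
    exact hK.1 (eq_top_iff.2 fun x _ => (ha x).1 rfl)
  rcases eq_top_or_exists_le_coatom (⊥ : Subgroup Q) with h0 | ⟨K, hK, -⟩
  · exact isCyclic_iff_exists_zpowers_eq_top.2 ⟨1, eq_top_iff.2 (h0 ▸ bot_le)⟩
  obtain ⟨x, hx⟩ : ∃ x, x ∉ K := by
    by_contra! h1
    exact hK.1 (eq_top_iff.2 fun x _ => h1 x)
  refine isCyclic_iff_exists_zpowers_eq_top.2 ⟨x, ?_⟩
  refine (eq_top_or_exists_le_coatom _).resolve_right fun ⟨L, hL, hxL⟩ => hx ?_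
  obtain ⟨a, ha, ha'⟩ := exists_sgn (hi K hK)
  obtain ⟨b, hb, hb'⟩ := exists_sgn (hi L hL)
  rw [← ha', h a b (hne K hK a ha') (hne L hL b hb') ha hb, hb']
  exact hxL (Subgroup.mem_zpowers x)

theorem isCyclic_quot_of_card (N : Subgroup G) [N.Normal] (hQ : IsPGroup 2 (G ⧸ N))
    (h : Nat.card {lam : G →* ℂˣ // (∀ n : N, lam n = 1) ∧ lam ^ 2 = 1} = 2) :
    IsCyclic (G ⧸ N) := by
  refine isCyclic_of_unique hQ fun a b ha hb ha2 hb2 => ?_
  obtain ⟨y, -, hy⟩ := (Nat.card_eq_two_iff' (⟨1, fun _ => rfl,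
    MonoidHom.ext fun _ => one_pow 2⟩ :
    {lam : G →* ℂˣ // (∀ n : N, lam n = 1) ∧ lam ^ 2 = 1})).1 h
  have hinj : ∀ a b : G ⧸ N →* ℂˣ, a.comp (QuotientGroup.mk' N) = b.comp (QuotientGroup.mk' N) →
      a = b := fun a b hab => (MonoidHom.cancel_right (QuotientGroup.mk'_surjective N)).1 hab
  have hm : ∀ a : G ⧸ N →* ℂˣ, a ^ 2 = 1 → (∀ n : N, a.comp (QuotientGroup.mk' N) n = 1) ∧
      a.comp (QuotientGroup.mk' N) ^ 2 = 1 := fun a ha => ⟨fun n => by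
        simp [(QuotientGroup.eq_one_iff _).2 n.2], MonoidHom.ext fun g =>
          DFunLike.congr_fun ha (g : G ⧸ N)⟩
  have h1 := hy ⟨_, hm a ha2⟩ fun h => ha (hinj _ _ (congrArg Subtype.val h))
  have h2 := hy ⟨_, hm b hb2⟩ fun h => hb (hinj _ _ (congrArg Subtype.val h))
  exact hinj _ _ (congrArg Subtype.val (h1.trans h2.symm))

/-- With a normal `p`-complement, the fixed linear members of the principal block. -/
theorem card_fixed_eq (hM : IsPModular p M)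
    (hk₁ : ∀ g : G, (∃ j : ℕ, orderOf g = p ^ j) → g ^ k = g ^ (1 + p))
    (hk₂ : ∀ g : G, ¬ p ∣ orderOf g → g ^ k = g) (hN : ¬ p ∣ Nat.card (pResidual p G))
    (S : IrrCharacter G → Prop)
    (hS : ∀ χ, S χ ↔ χ ∈ principalBlock M G ∧ charDegree (χ : G → ℂ) = 1 ∧
      ∀ g, (χ : G → ℂ) (g ^ k) = (χ : G → ℂ) g) :
    Nat.card {χ // S χ} =
      Nat.card {lam : G →* ℂˣ // (∀ n : pResidual p G, lam n = 1) ∧ lam ^ p = 1} := by
  have hp := hM.1
  have := Fact.mk hp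
  have hl : ∀ lam : G →* ℂˣ, (∀ n : pResidual p G, lam n = 1) →
      ∀ g, lam (g ^ k) = (lam ^ p) g * lam g := fun lam h g => by
    have h1 := pReg_pRegular hp g
    have h2 : lam (pReg p g) = 1 := h ⟨_, CF.Transfer.mem_pResidual_of_coprime
      ((Nat.Prime.coprime_iff_not_dvd hp).2 h1).symm⟩
    rw [← pPart_mul_pReg (p := p) g, (commute_pPart_pReg g).mul_pow,
      hk₁ _ (pPart_pElement hp g), hk₂ _ h1]
    simp [h2, pow_add, mul_comm]
  symm
  refine Nat.card_eq_of_bijective (fun lam => ⟨CF.Block.linIrr lam.1, (hS _).2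
    ⟨mem_pb_of_ext hM (θ := oneIrr _) (oneIrr_mem_principalBlock hM) fun n => by
      rw [CF.Block.linIrr_apply, lam.2.1]; rfl, CF.BlockB.charDegree_of_eq (n := 1) (by simp),
      fun g => by
        simp only [CF.Block.linIrr_apply, hl _ lam.2.1, lam.2.2, MonoidHom.one_apply, one_mul]⟩⟩)
    ⟨fun a b hab => Subtype.ext (CF.Block.linIrr_injective (congrArg Subtype.val hab)),
      fun ⟨χ, hχ⟩ => ?_⟩
  obtain ⟨h1, h2, h3⟩ := (hS χ).1 hχ
  have h4 := (Ord.deg_eq_one_iff (irr_isCharacter χ.2)).1 h2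
  obtain ⟨lam, hlam⟩ := exists_linear_of_one (irr_isCharacter χ.2) h4
  have h5 : ∀ n : pResidual p G, lam n = 1 := fun n => by
    have := (mem_charKer_iff (irr_isCharacter χ.2)).1 (le_charKer_of_mem_pb hM h1 _ hN n.2)
    rw [h4, hlam] at this
    exact Units.ext this
  refine ⟨⟨lam, h5, MonoidHom.ext fun g => ?_⟩, Subtype.ext (Subtype.ext hlam.symm)⟩
  have h6 := h3 g
  rw [hlam] at h6
  have h7 : lam (g ^ k) = lam g := Units.ext h6
  rw [hl lam h5] at h7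
  exact mul_eq_right.1 h7

end CF.Bz
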